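import Cfsg.Agent.H504.TwoExt
import Cfsg.Agent.H183.OutPSL

/-!
# Two characters with three zeros (S4897): characters of a degree coprime to its codegree

* `zero_of_degree` : `|S| = D M`, `D`, `M` coprime: characters of degree `D` vanish on all elements of order not coprime to `D`.
* `two_of_degree`, `row1_of_degree`, `row2_of_degree`.
* `index_le` : `|Aut S| ≤ c |S|` gives `|G : S| ≤ c`.
* `mulAut_le` : `|Aut PSL_2(p^f)| = gcd(2, q - 1) f |PSL_2(q)|`.
-/

set_option autoImplicit false
set_option linter.unusedSectionVars false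

namespace Cfsg.Agent.H797.TwoPsl

open Cfsg Cfsg.Agent.Characters.Core Cfsg.Agent.H504.Zeros Cfsg.Agent.H504.TwoZ

universe u v

section Gen

variable {S : Type u} [Group S]

theorem zero_of_degree [Finite S] {D M : ℕ} (hS : Nat.card S = D * M) (hc : Nat.Coprime D M)
    {χ : IrrCharacter S} (hχ : charDegree (χ : S → ℂ) = D) {x : S}
    (hx : ¬ Nat.Coprime (orderOf x) D) : (χ : S → ℂ) x = 0 := by
  obtain ⟨r, hr, h1, h2⟩ := Nat.Prime.not_coprime_iff_dvd.1 hx
  have : Fact r.Prime := ⟨hr⟩
  have hpos : 0 < Nat.card S := Nat.card_pos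
  have hD : D ≠ 0 := by rintro rfl; rw [hS, zero_mul] at hpos; exact lt_irrefl _ hpos
  have hM : M ≠ 0 := by rintro rfl; rw [hS, mul_zero] at hpos; exact lt_irrefl _ hpos
  refine Cfsg.Agent.H713.irr_zero_of_singular (p := r) ?_ h1
  have h3 : ¬ r ∣ M := by
    intro h
    have h4 := Nat.dvd_gcd h2 h
    rw [Nat.Coprime.gcd_eq_one hc] at h4
    exact hr.one_lt.ne' (Nat.dvd_one.1 h4)
  rw [hχ, hS, Nat.factorization_mul hD hM, Finsupp.add_apply,
    Nat.factorization_eq_zero_of_not_dvd h3, add_zero]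

/-- the irreducible characters of degree `D` -/
abbrev Deg (S : Type u) [Group S] (D : ℕ) := {χ : IrrCharacter S // charDegree (χ : S → ℂ) = D}

theorem two_of_degree [Finite S] {D M : ℕ} (hS : Nat.card S = D * M) (hc : Nat.Coprime D M)
    (o : Finset ℕ) (ho : ∀ n ∈ o, ¬ Nat.Coprime n D ∧ ∃ g : S, orderOf g = n) (h3 : 3 ≤ o.card)
    {G : Type v} [Group G] [Finite G] (N : Subgroup G) [N.Normal] (e : N ≃* S)
    (hi : N.index < Nat.card (Deg S D)) : Two G := by
  classical
  have := finite_irr (G := S)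
  have := Fintype.ofFinite (IrrCharacter S)
  obtain ⟨t, ht, htc, hto⟩ := autNC_of_orders (S := S) o fun n hn => (ho n hn).2
  refine two_of_many N e (Finset.univ.filter fun χ : IrrCharacter S => charDegree (χ : S → ℂ) = D)
    ?_ t ht ?_ (h3.trans htc.ge)
  · rw [← Fintype.card_subtype, ← Nat.card_eq_fintype_card]
    exact hi
  · intro θ hθ x hx φ
    refine zero_of_degree hS hc (Finset.mem_filter.1 hθ).2 ?_
    rw [MulEquiv.orderOf_eq]
    exact (ho _ (hto x hx)).1

theorem row1_of_degree [Finite S] {D M : ℕ} (hS : Nat.card S = D * M) (hc : Nat.Coprime D M)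
    (o : Finset ℕ) (ho : ∀ n ∈ o, ¬ Nat.Coprime n D ∧ ∃ g : S, orderOf g = n) (h3 : 3 ≤ o.card)
    (hi : 2 ≤ Nat.card (Deg S D)) : Two S := by
  classical
  have := finite_irr (G := S)
  obtain ⟨t, ht, htc, hto⟩ := autNC_of_orders (S := S) o fun n hn => (ho n hn).2
  have h1 : 1 < Nat.card (Deg S D) := hi
  rw [Finite.one_lt_card_iff_nontrivial] at h1
  obtain ⟨a, b, hab⟩ := h1
  refine two_of_zeros (fun h => hab (Subtype.ext h)) t t ht.nonConj ht.nonConj ?_ ?_
    (h3.trans htc.ge) (h3.trans htc.ge)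
  · exact fun g hg => zero_of_degree hS hc a.2 (ho _ (hto g hg)).1
  · exact fun g hg => zero_of_degree hS hc b.2 (ho _ (hto g hg)).1

theorem index_le [Finite S] {G : Type v} [Group G] [Finite G] (N : Subgroup G) [N.Normal] (e : N ≃* S)
    (hcen : Subgroup.centralizer (N : Set G) = ⊥) {c : ℕ} (h : Nat.card (MulAut S) ≤ c * Nat.card S) :
    N.index ≤ c := by
  have hinj : Function.Injective (MulAut.conjNormal (H := N) : G →* MulAut N) := by
    rw [injective_iff_map_eq_one]
    intro g hg
    rw [← Subgroup.mem_bot, ← hcen, Subgroup.mem_centralizer_iff]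
    intro n hn
    have h1 := congrArg (fun φ : MulAut N => ((φ ⟨n, hn⟩ : N) : G)) hg
    have h2 : g * n * g⁻¹ = n := by simpa [MulAut.conjNormal_apply] using h1
    calc n * g = g * n * g⁻¹ * g := by rw [h2]
      _ = g * n := by group
  have : Finite (MulAut N) := by
    refine Finite.of_injective (fun φ : MulAut N => (φ : N → N)) ?_
    intro a b hab
    exact MulEquiv.ext fun x => congrFun hab x
  have h1 : Nat.card G ≤ Nat.card (MulAut N) := Nat.card_le_card_of_injective _ hinj
  have h2 : Nat.card (MulAut N) = Nat.card (MulAut S) := Nat.card_congr (MulAut.congr e).toEquiv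
  have h3 : Nat.card N * N.index = Nat.card G := N.card_mul_index
  have h4 : Nat.card N = Nat.card S := Nat.card_congr e.toEquiv
  have h5 : 0 < Nat.card S := Nat.card_pos
  rw [h4] at h3
  have h6 : Nat.card S * N.index ≤ Nat.card S * c := by
    rw [h3, mul_comm _ c]
    exact (h1.trans h2.le).trans h
  exact Nat.le_of_mul_le_mul_left h6 h5

theorem row2_of_degree [Finite S] {D M : ℕ} (hS : Nat.card S = D * M) (hc : Nat.Coprime D M)
    (o : Finset ℕ) (ho : ∀ n ∈ o, ¬ Nat.Coprime n D ∧ ∃ g : S, orderOf g = n) (h3 : 3 ≤ o.card)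
    {c : ℕ} (h : Nat.card (MulAut S) ≤ c * Nat.card S) (hi : c < Nat.card (Deg S D)) : Row2 S := by
  rintro G _ _ N _ ⟨e⟩ hcen - -
  exact Or.inl (two_of_degree hS hc o ho h3 N e (lt_of_le_of_lt (index_le N e hcen h) hi))

/-- a lower bound for the number of characters of degree `D` -/
theorem le_card_deg [Finite S] {D m : ℕ} (f : Fin m → IrrCharacter S) (hf : Function.Injective f)
    (hd : ∀ i, charDegree (f i : S → ℂ) = D) : m ≤ Nat.card (Deg S D) := by
  have := finite_irr (G := S)
  have h1 := Nat.card_le_card_of_injective (fun i : Fin m => (⟨f i, hd i⟩ : Deg S D))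
    (fun i j h => hf (congrArg Subtype.val h))
  simpa using h1

end Gen

section Aut

variable {F : Type} [Field F] [Fintype F]

theorem mulAut_le {p f : ℕ} [Fact p.Prime] (hf : 1 ≤ f) (hF : Fintype.card F = p ^ f) :
    Nat.card (MulAut (Matrix.ProjectiveSpecialLinearGroup (Fin 2) F)) ≤
      (Nat.gcd 2 (Fintype.card F - 1) * f) *
        Nat.card (Matrix.ProjectiveSpecialLinearGroup (Fin 2) F) := by
  have hch : CharP F p := charP_of_card_eq_prime_pow hF
  rw [Cfsg.Agent.ClassicalGeometry.AutPSL.Main.card_two p, Cfsg.Agent.H183.OutPSL.card_pgl_eq le_rfl,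
    Cfsg.Agent.Lib.FieldAutCard.card_ringAut hf hF]
  exact le_of_eq (by ring)

end Aut

end Cfsg.Agent.H797.TwoPsl
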