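import Cfsg.Agent.H797.TwoPsl.Basic
import Cfsg.Agent.H681.ZerosPSL2
import Cfsg.Agent.H706.GlaubQuot
import Cfsg.Agent.S2300
import Cfsg.Agent.S2306
import Cfsg.Agent.S2433
import Cfsg.Agent.S2434

/-!
# Characters of `PSL_2(q)` of degree `q - 1` and `q + 1`
-/

set_option autoImplicit false
set_option linter.unusedSectionVars false

namespace Cfsg.Agent.H797.TwoPsl

open scoped MatrixGroups
open Cfsg Cfsg.Agent.Characters.Core Cfsg.Agent.ClassicalGeometry.PSLTorus Cfsg.Agent.H504.Zeros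
open Cfsg.Agent.H681.ZerosPSL2

theorem root_pair {ζ : ℂˣ} {N m : ℕ} (hζ : orderOf ζ = N) (hN : 2 * m < N) {i j : ℕ} (hi : 1 ≤ i)
    (him : i ≤ m) (hj : 1 ≤ j) (hjm : j ≤ m)
    (h : ((ζ ^ i : ℂˣ) : ℂ) + ((ζ ^ i)⁻¹ : ℂˣ) = ((ζ ^ j : ℂˣ) : ℂ) + ((ζ ^ j)⁻¹ : ℂˣ)) : i = j := by
  have hx : ((ζ ^ i : ℂˣ) : ℂ) * (((ζ ^ i)⁻¹ : ℂˣ) : ℂ) = 1 := by simp
  have hy : ((ζ ^ j : ℂˣ) : ℂ) * (((ζ ^ j)⁻¹ : ℂˣ) : ℂ) = 1 := by simp
  have hprod : (((ζ ^ i : ℂˣ) : ℂ) - ((ζ ^ j : ℂˣ) : ℂ)) *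
      (((ζ ^ i : ℂˣ) : ℂ) * ((ζ ^ j : ℂˣ) : ℂ) - 1) = 0 := by
    linear_combination ((ζ ^ i : ℂˣ) : ℂ) * ((ζ ^ j : ℂˣ) : ℂ) * h - ((ζ ^ j : ℂˣ) : ℂ) * hx
      + ((ζ ^ i : ℂˣ) : ℂ) * hy
  rcases mul_eq_zero.1 hprod with h1 | h1
  · have h2 : ζ ^ i = ζ ^ j := Units.ext (sub_eq_zero.1 h1)
    exact pow_injOn_Iio_orderOf (by rw [Set.mem_Iio, hζ]; omega) (by rw [Set.mem_Iio, hζ]; omega) h2
  · exfalso
    have h2 : ζ ^ (i + j) = 1 := by
      apply Units.ext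
      rw [pow_add, Units.val_mul, Units.val_one]
      exact sub_eq_zero.1 h1
    have h3 := orderOf_dvd_of_pow_eq_one h2
    rw [hζ] at h3
    have h4 := Nat.le_of_dvd (by omega) h3
    omega

theorem exists_root (N : ℕ) (hN : N ≠ 0) : ∃ ζ : ℂˣ, orderOf ζ = N := by
  have h := Complex.isPrimitiveRoot_exp N hN
  exact ⟨(h.isUnit hN).unit, ((h.isUnit_unit hN).eq_orderOf).symm⟩

theorem eq_one_of_sq_of_odd {G : Type*} [Group G] {x : G} (h2 : x ^ 2 = 1) {N : ℕ} (hN : Odd N)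
    (h : x ^ N = 1) : x = 1 := by
  rw [← orderOf_eq_one_iff]
  have h3 := Nat.dvd_gcd (orderOf_dvd_of_pow_eq_one h2) (orderOf_dvd_of_pow_eq_one h)
  have h4 : Nat.gcd 2 N = 1 := Nat.coprime_two_left.2 hN
  rw [h4] at h3
  exact Nat.dvd_one.1 h3

variable {F : Type} [Field F] [Fintype F]

/-- deflation from `SL_2` to `PSL_2` -/
theorem deflate {χ : SL(2, F) → ℂ} (hχ : IsIrrCharacter (SL(2, F)) χ) (h : χ (-1) = χ 1) :
    ∃ χ' : IrrCharacter (Matrix.ProjectiveSpecialLinearGroup (Fin 2) F),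
      ∀ g, χ g = (χ' : Matrix.ProjectiveSpecialLinearGroup (Fin 2) F → ℂ) (pr F g) := by
  have := Fintype.ofFinite (Subgroup.center (SL(2, F)))
  obtain ⟨χ', h'⟩ := Cfsg.Agent.Blocks.Deflate.exists_deflation (Subgroup.center (SL(2, F))) χ hχ (by
    have h1 : ∀ n : Subgroup.center (SL(2, F)), χ n = χ 1 := by
      intro n
      rcases (Cfsg.Agent.LieClassical.SmallIso.mem_center_sl_two_iff _).1 n.2 with h2 | h2
      · rw [h2]
      · rw [h2, h]
    rw [Finset.sum_congr rfl fun n _ => h1 n, Finset.sum_const, Finset.card_univ, nsmul_eq_mul]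
    exact mul_ne_zero (Nat.cast_ne_zero.2 Fintype.card_ne_zero) (isIrr_apply_one_ne_zero hχ))
  exact ⟨χ', fun g => congrFun h' g⟩

theorem degree_of {χ : SL(2, F) → ℂ} {χ' : IrrCharacter (Matrix.ProjectiveSpecialLinearGroup (Fin 2) F)}
    (h : ∀ g, χ g = (χ' : Matrix.ProjectiveSpecialLinearGroup (Fin 2) F → ℂ) (pr F g)) {D : ℕ}
    (hD : χ 1 = D) : charDegree (χ' : Matrix.ProjectiveSpecialLinearGroup (Fin 2) F → ℂ) = D := by
  apply Cfsg.Agent.Blocks.Basic.charDegree_of_eq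
  rw [← hD, h 1, map_one]

/-- discrete series -/
theorem card_deg_sub {m : ℕ} (hq : Fintype.card F = 4 * m + 1) :
    m ≤ Nat.card (Deg (Matrix.ProjectiveSpecialLinearGroup (Fin 2) F) (Fintype.card F - 1)) := by
  classical
  have hodd : Odd (Fintype.card F) := Nat.odd_iff.2 (by omega)
  obtain ⟨a, s, ha, -, -, hneg, -, -⟩ :=
    Cfsg.Agent.ClassicalGeometry.NonsplitTorus.exists_torus_TI F
  obtain ⟨ζ, hζ⟩ := exists_root (2 * m + 1) (by omega)
  have hcyc : IsCyclic (Subgroup.zpowers a) := inferInstance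
  have hcard : Nat.card (Subgroup.zpowers a) = Fintype.card F + 1 := by
    rw [Nat.card_zpowers, ha]
  have hgen : ∀ x : Subgroup.zpowers a, x ∈ Subgroup.zpowers (⟨a, Subgroup.mem_zpowers a⟩ : Subgroup.zpowers a) := by
    rintro ⟨x, hx⟩
    obtain ⟨k, rfl⟩ := Subgroup.mem_zpowers_iff.1 hx
    exact ⟨k, by apply Subtype.ext; simp⟩
  have hord : orderOf (⟨a, Subgroup.mem_zpowers a⟩ : Subgroup.zpowers a) = Fintype.card F + 1 := by
    rw [Subgroup.orderOf_mk, ha]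
  have hpow : ∀ j : ℕ, (ζ ^ j) ^ (2 * m + 1) = 1 := by
    intro j
    rw [← pow_mul, mul_comm, pow_mul, ← hζ, pow_orderOf_eq_one, one_pow]
  have hdvd : ∀ j : ℕ, orderOf (ζ ^ j) ∣ orderOf (⟨a, Subgroup.mem_zpowers a⟩ : Subgroup.zpowers a) := by
    intro j
    rw [hord, hq, show 4 * m + 1 + 1 = (2 * m + 1) * 2 by ring]
    exact (orderOf_dvd_of_pow_eq_one (hpow j)).trans (dvd_mul_right _ _)
  have hacen : a ∉ Subgroup.center (SL(2, F)) := by
    intro h
    have h1 : a ^ 2 = 1 := by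
      rcases (Cfsg.Agent.LieClassical.SmallIso.mem_center_sl_two_iff _).1 h with h2 | h2
      · rw [h2, one_pow]
      · rw [h2]; simp
    have h2 := orderOf_dvd_of_pow_eq_one h1
    rw [ha] at h2
    have h3 := Nat.le_of_dvd (by norm_num) h2
    have h4 : 1 < Fintype.card F := Fintype.one_lt_card
    omega
  have key : ∀ j : Fin m, ∃ χ' : IrrCharacter (Matrix.ProjectiveSpecialLinearGroup (Fin 2) F),
      charDegree (χ' : Matrix.ProjectiveSpecialLinearGroup (Fin 2) F → ℂ) = Fintype.card F - 1 ∧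
      (χ' : Matrix.ProjectiveSpecialLinearGroup (Fin 2) F → ℂ) (pr F a) =
        -(((ζ ^ ((j : ℕ) + 1) : ℂˣ) : ℂ) + ((ζ ^ ((j : ℕ) + 1))⁻¹ : ℂˣ)) := by
    intro j
    set θ : Subgroup.zpowers a →* ℂˣ := monoidHomOfForallMemZpowers hgen (hdvd ((j : ℕ) + 1)) with hθ
    have hθa : θ ⟨a, Subgroup.mem_zpowers a⟩ = ζ ^ ((j : ℕ) + 1) :=
      monoidHomOfForallMemZpowers_apply_gen hgen (hdvd ((j : ℕ) + 1))
    have hne : ∃ c : Subgroup.zpowers a, θ c ^ 2 ≠ 1 := by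
      refine ⟨⟨a, Subgroup.mem_zpowers a⟩, ?_⟩
      rw [hθa, ← pow_mul]
      intro h
      have h1 := orderOf_dvd_of_pow_eq_one h
      rw [hζ] at h1
      have h2 := Nat.le_of_dvd (by omega) h1
      have := j.2
      omega
    obtain ⟨χ, hχ, h1, hc, hz, -, -⟩ := (Cfsg.Agent.S2434.result hodd (Subgroup.zpowers a) hcyc hcard).1 θ hne
    have hcneg : (-1 : SL(2, F)) ∈ Subgroup.center (SL(2, F)) :=
      (Cfsg.Agent.LieClassical.SmallIso.mem_center_sl_two_iff _).2 (Or.inr rfl)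
    have hθneg : θ ⟨-1, hneg⟩ = 1 := by
      refine eq_one_of_sq_of_odd ?_ (N := 2 * m + 1) ⟨m, rfl⟩ ?_
      · rw [← map_pow]
        have : (⟨-1, hneg⟩ : Subgroup.zpowers a) ^ 2 = 1 := by
          apply Subtype.ext
          simp
        rw [this, map_one]
      · obtain ⟨k, hk⟩ := hgen ⟨-1, hneg⟩
        rw [← hk]
        show (θ ((⟨a, Subgroup.mem_zpowers a⟩ : Subgroup.zpowers a) ^ k)) ^ (2 * m + 1) = 1
        rw [map_zpow, hθa, ← zpow_natCast, zpow_comm, zpow_natCast, hpow, one_zpow]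
    have h2 : χ (-1) = χ 1 := by
      have := hz ⟨-1, hneg⟩ hcneg 1
      rw [hθneg, Units.val_one, one_mul] at this
      simpa using this
    obtain ⟨χ', h'⟩ := deflate hχ h2
    refine ⟨χ', degree_of h' ?_, ?_⟩
    · rw [h1, Nat.cast_sub (by omega), Nat.cast_one]
    · rw [← h' a, hc ⟨a, Subgroup.mem_zpowers a⟩ hacen, hθa]
  choose f hf using key
  refine le_card_deg f ?_ fun i => (hf i).1
  intro i j hij
  have h1 := (hf i).2
  have h2 := (hf j).2
  rw [hij, h2] at h1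
  have h3 := root_pair hζ (m := m) (by omega) (i := (j : ℕ) + 1) (j := (i : ℕ) + 1) (by omega)
    (by have := j.2; omega) (by omega) (by have := i.2; omega) (neg_injective h1)
  apply Fin.ext
  omega

/-- principal series -/
theorem principal (hodd : Odd (Fintype.card F)) (α : MulChar F ℂ) (h1 : α (-1) = 1) (h2 : α ^ 2 ≠ 1) :
    ∃ χ : IrrCharacter (Matrix.ProjectiveSpecialLinearGroup (Fin 2) F),
      charDegree (χ : Matrix.ProjectiveSpecialLinearGroup (Fin 2) F → ℂ) = Fintype.card F + 1 ∧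
      ∀ b : Fˣ, b ^ 2 ≠ 1 → (χ : Matrix.ProjectiveSpecialLinearGroup (Fin 2) F → ℂ) (dH F b) =
        α b + α ((b⁻¹ : Fˣ) : F) := by
  classical
  have hirr := (Cfsg.Agent.S2306.result α).2 h2
  have hone := (Cfsg.Agent.S2433.result hodd α 1).2.2.2 (by simp) (by simp) (by simp)
  have hmone := (Cfsg.Agent.S2433.result hodd α (-1)).2.2.2 (by simp) (by simp) (by simp)
  have e1 : ((1 : SL(2, F)) : Matrix (Fin 2) (Fin 2) F) 0 0 = 1 := by simp
  have e2 : ((-1 : SL(2, F)) : Matrix (Fin 2) (Fin 2) F) 0 0 = -1 := by simp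
  rw [e1, map_one, mul_one] at hone
  rw [e2, h1, mul_one] at hmone
  obtain ⟨χ', h'⟩ := deflate hirr (hmone.trans hone.symm)
  refine ⟨χ', degree_of h' ?_, ?_⟩
  · rw [hone]
    push_cast
    ring
  · intro b hb
    have h3 : (χ' : Matrix.ProjectiveSpecialLinearGroup (Fin 2) F → ℂ) (dH F b) = _ :=
      (h' (Cfsg.Agent.Walter.MetaPSL.diagHom F b)).symm
    rw [h3]
    have h4 := (Cfsg.Agent.S2433.result hodd α (Cfsg.Agent.Walter.MetaPSL.diagHom F b)).1
      (d01 _) (d10 _) (by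
        rw [d00]
        intro h
        apply hb
        apply Units.ext
        rw [Units.val_pow_eq_pow_val, h, Units.val_one])
    rw [h4, d00, d11]

/-- the characters `α_j` of `F^×` -/
theorem exists_alpha {m : ℕ} (hq : Fintype.card F = 4 * m + 3) {g : Fˣ} (hg : ∀ x, x ∈ Subgroup.zpowers g)
    {ζ : ℂˣ} (hζ : orderOf ζ = 2 * m + 1) (j : ℕ) : ∃ α : MulChar F ℂ, α (-1) = 1 ∧
      ∀ k : ℕ, α ((g ^ k : Fˣ) : F) = ((ζ ^ (j * k) : ℂˣ) : ℂ) ∧ α (((g ^ k)⁻¹ : Fˣ) : F) = ((ζ ^ (j * k))⁻¹ : ℂˣ) := by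
  classical
  have hpow : ∀ j : ℕ, (ζ ^ j) ^ (2 * m + 1) = 1 := by
    intro j
    rw [← pow_mul, mul_comm, pow_mul, ← hζ, pow_orderOf_eq_one, one_pow]
  have hroot : ζ ^ j ∈ rootsOfUnity (Fintype.card Fˣ) ℂ := by
    rw [mem_rootsOfUnity, Fintype.card_units, hq, show 4 * m + 3 - 1 = (2 * m + 1) * 2 by omega, pow_mul,
      hpow, one_pow]
  refine ⟨MulChar.ofRootOfUnity hroot hg, ?_, ?_⟩
  · set α := MulChar.ofRootOfUnity hroot hg with hα
    have hαg : α (g : F) = (ζ ^ j : ℂˣ) := MulChar.ofRootOfUnity_spec hroot hg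
    have h1 : α.toUnitHom (-1 : Fˣ) = 1 := by
      refine eq_one_of_sq_of_odd ?_ (N := 2 * m + 1) ⟨m, rfl⟩ ?_
      · rw [← map_pow]
        simp
      · obtain ⟨k, hk⟩ := hg (-1)
        rw [← hk]
        show (α.toUnitHom (g ^ k)) ^ (2 * m + 1) = 1
        have h2 : α.toUnitHom g = ζ ^ j := by
          apply Units.ext
          rw [MulChar.coe_toUnitHom, hαg]
        rw [map_zpow, h2, ← zpow_natCast, zpow_comm, zpow_natCast, hpow, one_zpow]
    have h3 := congrArg Units.val h1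
    rw [MulChar.coe_toUnitHom] at h3
    simpa using h3
  · intro k
    set α := MulChar.ofRootOfUnity hroot hg with hα
    have hαg : α (g : F) = (ζ ^ j : ℂˣ) := MulChar.ofRootOfUnity_spec hroot hg
    have h2 : α.toUnitHom g = ζ ^ j := by
      apply Units.ext
      rw [MulChar.coe_toUnitHom, hαg]
    constructor
    · rw [← MulChar.coe_toUnitHom, map_pow, h2, pow_mul]
    · rw [← MulChar.coe_toUnitHom, map_inv, map_pow, h2, pow_mul]

theorem card_deg_add {m : ℕ} (hq : Fintype.card F = 4 * m + 3) :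
    m ≤ Nat.card (Deg (Matrix.ProjectiveSpecialLinearGroup (Fin 2) F) (Fintype.card F + 1)) := by
  classical
  have hodd : Odd (Fintype.card F) := Nat.odd_iff.2 (by omega)
  obtain ⟨g, hg⟩ := IsCyclic.exists_generator (α := Fˣ)
  obtain ⟨ζ, hζ⟩ := exists_root (2 * m + 1) (by omega)
  have hgo : orderOf g = 4 * m + 2 := by
    rw [orderOf_eq_card_of_forall_mem_zpowers hg, Nat.card_eq_fintype_card, Fintype.card_units, hq]
    omega
  have key : ∀ j : Fin m, ∃ χ : IrrCharacter (Matrix.ProjectiveSpecialLinearGroup (Fin 2) F),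
      charDegree (χ : Matrix.ProjectiveSpecialLinearGroup (Fin 2) F → ℂ) = Fintype.card F + 1 ∧
      (χ : Matrix.ProjectiveSpecialLinearGroup (Fin 2) F → ℂ) (dH F g) =
        (((ζ ^ ((j : ℕ) + 1) : ℂˣ) : ℂ) + ((ζ ^ ((j : ℕ) + 1))⁻¹ : ℂˣ)) := by
    intro j
    obtain ⟨α, h1, h2⟩ := exists_alpha hq hg hζ ((j : ℕ) + 1)
    obtain ⟨h3, h4⟩ := h2 1
    rw [pow_one, mul_one] at h3 h4
    obtain ⟨χ, h5, h6⟩ := principal hodd α h1 (by
      intro h
      have h7 : (α ^ 2) (g : F) = 1 := by rw [h]; simp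
      rw [MulChar.pow_apply' _ (by norm_num), h3] at h7
      have h8 : (ζ ^ ((j : ℕ) + 1)) ^ 2 = 1 := Units.ext (by push_cast; exact_mod_cast h7)
      rw [← pow_mul] at h8
      have h9 := orderOf_dvd_of_pow_eq_one h8
      rw [hζ] at h9
      have h10 := Nat.le_of_dvd (by omega) h9
      have := j.2
      omega)
    refine ⟨χ, h5, ?_⟩
    rw [h6 g ?_, h3, h4]
    intro h
    have h7 := orderOf_dvd_of_pow_eq_one h
    rw [hgo] at h7
    have h8 := Nat.le_of_dvd (by norm_num) h7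
    have := j.2
    omega
  choose f hf using key
  refine le_card_deg f ?_ fun i => (hf i).1
  intro i j hij
  have h1 := (hf i).2
  have h2 := (hf j).2
  rw [hij, h2] at h1
  have h3 := root_pair hζ (m := m) (by omega) (i := (j : ℕ) + 1) (j := (i : ℕ) + 1) (by omega)
    (by have := j.2; omega) (by omega) (by have := i.2; omega) h1
  apply Fin.ext
  omega

end Cfsg.Agent.H797.TwoPsl
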